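import Cfsg.Agent.Lib.Chevalley.Twist.AbInstCheck

/-!
Certificates for two generators of twisted groups with commuting orbits.
-/

set_option autoImplicit false

namespace CfsgLib.Chevalley.Tbl

variable (T : Tbl)

/-- A product of orbit words on root indices. -/
def twP (words : List (List ℕ)) (js : List ℕ) (x : ℕ) : ℕ :=
  js.foldr (fun j y => T.actWord (words.getD j []) y) x

/-- Iterates of `twP`. -/
def twIt (words : List (List ℕ)) (js : List ℕ) : ℕ → ℕ → ℕ
  | 0, x => x
  | k + 1, x => twIt words js k (T.twP words js x)

/-- A root fixed by the root map, with sign and exponent one. -/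
def twFixed (M : RootMap) (r : ℕ) : Bool :=
  Nat.blt r T.n && Nat.beq (M.ρ r) r && decide (M.ε r = 1) && Nat.beq (M.lam r) 1

/-- All roots of a list are moved into a source by the given number of steps. -/
def twHit (words : List (List ℕ)) (js : List ℕ) (L0 : List ℕ) (r : ℕ) (d : Bool × ℕ) (tg : List ℕ) : Bool :=
  tg.all fun x => (bif d.1 then [r] else L0).any (Nat.beq (T.twIt words js d.2 x))

/-- Each orbit and its negative come from the orbit `j0` or from the root `r = w^k g`. -/
def chkTwGen (M : RootMap) (o : ℕ) (words Ss : List (List ℕ)) (j0 : ℕ) (js : List ℕ) (g r k be : ℕ)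
    (data : List ((Bool × ℕ) × (Bool × ℕ))) : Bool :=
  Nat.blt j0 o && js.all (fun j => Nat.blt j o) && T.twFixed M g && T.twFixed M r &&
    Nat.beq (T.twIt words js k g) r && Nat.blt be T.n &&
    Nat.beq (T.twP words js be) ((T.simples (Ss.getD j0 [])).getD 0 0) &&
    allLt (fun j =>
      T.twHit words js (T.simples (Ss.getD j0 [])) r (data.getD j ((false, 0), (false, 0))).1
          (T.simples (Ss.getD j [])) &&
        T.twHit words js (T.simples (Ss.getD j0 [])) r (data.getD j ((false, 0), (false, 0))).2
          ((T.simples (Ss.getD j [])).map T.neg)) o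

end CfsgLib.Chevalley.Tbl
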