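import Cfsg.Agent.Lib.KnownB.TwGen.Check
import Cfsg.Agent.Lib.KnownB.ChevGen.Main
import Cfsg.Agent.Lib.Chevalley.Twist.InstF4

/-!
Two generators of the large Ree groups.
-/

set_option autoImplicit false
set_option maxRecDepth 20000
set_option Elab.async false

namespace CfsgLib.Chevalley.Twist.F4

open Tbl

local notation "T4" => Data.F4.tbl

/-- The Coxeter element. -/
def genW4 (x : ℕ) : ℕ := (T4).twP Data.F4.orbWords [1, 0] x

theorem twGen_facts : genW4 21 = 25 ∧ 21 < (T4).n ∧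
    (∀ r ∈ [24, 33], genW4 (genW4 r) < (T4).n ∧
      (T4).ca (3 : Fin 4).val (genW4 (genW4 r)) = 0 ∧ (T4).ca (0 : Fin 4).val (genW4 (genW4 r)) = 0) ∧
    ((T4).ca (3 : Fin 4).val 21 = -1 ∧ (T4).ca (0 : Fin 4).val 21 = 0) ∧
    (∀ r ∈ [14, 23], genW4 (genW4 (genW4 (genW4 r))) ∈ [24, 33]) ∧
    ∀ r ∈ [20, 22, 19, 17], genW4 (genW4 (genW4 (genW4 r))) ∈ [25, 27, 28, 30] := by decide +kernel

variable {K : Type*} [Field K] [Finite K] {m : ℕ}

/-- The torus of the pair. -/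
noncomputable def tor (_hK : Nat.card K = 2 ^ (2 * m + 1)) : Kˣ →* GL (T4).I K :=
  (torusHom T4 K).comp
    { toFun := fun c => supp m c 1
      map_one' := by
        have : ∀ i : Fin 4, (![(1 : Kˣ) ^ 2 ^ m, 1 ^ 2 ^ m, 1, 1] : Fin 4 → Kˣ) i = 1 := by
          intro i; fin_cases i <;> simp
        exact funext this
      map_mul' := fun a b => by
        have : ∀ i : Fin 4, (![(a * b) ^ 2 ^ m, 1 ^ 2 ^ m, 1, a * b] : Fin 4 → Kˣ) i =
            (![a ^ 2 ^ m, 1 ^ 2 ^ m, 1, a] * ![b ^ 2 ^ m, 1 ^ 2 ^ m, 1, b] : Fin 4 → Kˣ) i := by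
          intro i; fin_cases i <;> simp [mul_pow]
        exact funext this }

variable (hK : Nat.card K = 2 ^ (2 * m + 1))
include hK

theorem tor_apply (c : Kˣ) : tor hK c = torusHom T4 K (supp m c 1) := rfl

theorem tor_mem (c : Kˣ) : tor hK c ∈ (T4).datum.diagonalSubgroup K ⊓ (S hK).fix :=
  diag_fix hK ▸ Subgroup.mem_map_of_mem _ (supp_mem hK c 1)

theorem tor_char (c : Kˣ) (r : ℕ) :
    ∏ i : Fin (T4).rank, supp m c 1 i ^ (T4).ca i r =
      c ^ (T4).ca (3 : Fin 4).val r * (c ^ 2 ^ m) ^ (T4).ca (0 : Fin 4).val r := by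
  show ∏ i : Fin 4, supp m c 1 i ^ (T4).ca i.val r = _
  rw [Fin.prod_univ_four]
  simp [supp, mul_comm]

theorem tor_commute (c : Kˣ) {P : ℕ → Prop}
    (hP : ∀ r, r < (T4).n → P r → (T4).ca (3 : Fin 4).val r = 0 ∧ (T4).ca (0 : Fin 4).val r = 0)
    {x : GL (T4).I K} (hx : x ∈ (T4).rootGen K P) : tor hK c * x = x * tor hK c := by
  induction hx using Subgroup.closure_induction with
  | mem y hy =>
    obtain ⟨r, hr, hPr, t, rfl⟩ := hy
    obtain ⟨h3, h0⟩ := hP r hr hPr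
    show (T4).dU (fun s => ∏ i, supp m c 1 i ^ (T4).ca i s) * _ = _
    rw [dU_conj_X Data.F4.valid (isChar_prod Data.F4.valid _) hr, tor_char hK c r, h3, h0, zpow_zero,
      zpow_zero, mul_one, Units.val_one, one_mul]
    rfl
  | one => rw [mul_one, one_mul]
  | mul a b _ _ iha ihb => rw [← mul_assoc, iha, mul_assoc, ihb, mul_assoc]
  | inv a _ iha => exact Commute.inv_right (show Commute (tor hK c) a from iha)

theorem quad_fst_inj {t u t' u' : K}
    (h : quad m 27 25 28 30 t u = quad m 27 25 28 30 t' u') : t = t' := by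
  have := gprod_inj Data.F4.valid Data.F4.chkComm (L := [25, 27, 28, 30]) (by decide) (by decide +kernel)
    (fun r => if r = 25 then t else if r = 27 then t ^ 2 ^ m else if r = 28 then u else
      t ^ (2 * 2 ^ m + 1) + u ^ (2 * 2 ^ m))
    (fun r => if r = 25 then t' else if r = 27 then t' ^ 2 ^ m else if r = 28 then u' else
      t' ^ (2 * 2 ^ m + 1) + u' ^ (2 * 2 ^ m))
    (by simpa [quad, gprod] using h) 25 (by simp)
  simpa using this

theorem snd_mult_eq_one {c : Kˣ} (h : c ^ (2 ^ m + 1) = 1) : c = 1 := by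
  rw [pow_succ] at h
  have h1 : c ^ 2 ^ m = c⁻¹ := eq_inv_of_mul_eq_one_left h
  have h2 : (c ^ 2 ^ m) ^ 2 ^ m = c := by rw [h1, inv_pow, h1, inv_inv]
  have h3 := units_theta hK c
  rw [mul_comm, pow_mul, h2, pow_two] at h3
  exact mul_eq_left.mp h3

section
variable {H : Subgroup (GL (T4).I K)}

theorem all_quad (hm : 1 ≤ m) (hd : ∀ c, tor hK c ∈ H) {t1 u1 : K} (ht1 : t1 ≠ 0)
    (h1 : quad m 27 25 28 30 t1 u1 ∈ H) (t u : K) : quad m 27 25 28 30 t u ∈ H := by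
  have hfst : ∀ t, ∃ u, quad m 27 25 28 30 t u ∈ H := by
    intro t
    rcases eq_or_ne t 0 with rfl | ht
    · exact ⟨0, by rw [quad_zero hK quadPos]; exact one_mem H⟩
    have := mul_mem (mul_mem (hd (Units.mk0 (t1 / t) (div_ne_zero ht1 ht))) h1)
      (inv_mem (hd (Units.mk0 (t1 / t) (div_ne_zero ht1 ht))))
    rw [tor_apply, conj_quad hK, Units.val_mk0, inv_div, div_mul_cancel₀ t ht1] at this
    exact ⟨_, this⟩
  obtain ⟨c, -, hc1, -⟩ := exists_gen_unit hK hm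
  obtain ⟨ua, ha⟩ := hfst 1
  obtain ⟨s, hs⟩ : ∃ s : K, s ^ 2 ^ m ≠ s := by
    by_contra hall
    push Not at hall
    refine hc1 ?_
    have h := pow_theta hK (c : K)
    rw [hall, mul_comm, pow_mul, hall, pow_two] at h
    exact mul_eq_left₀ c.ne_zero |>.mp h
  obtain ⟨us, hs'⟩ := hfst s
  have hδ : quad m 27 25 28 30 0 (s ^ 2 ^ m + s) ∈ H := by
    have h := mul_mem (inv_mem (mul_mem ha hs')) (mul_mem hs' ha)
    rw [quad_mul hK quadPos, quad_mul hK quadPos] at h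
    rwa [show quad m 27 25 28 30 (s + 1) (us + ua + s ^ 2 ^ m * 1) =
      quad m 27 25 28 30 (1 + s) (ua + us + 1 ^ 2 ^ m * s) * quad m 27 25 28 30 0 (s ^ 2 ^ m + s) by
        rw [quad_mul hK quadPos, one_pow, mul_zero]
        congr 1
        · ring
        · linear_combination (-s) * two_eq_zero hK,
      inv_mul_cancel_left] at h
  have hne : s ^ 2 ^ m + s ≠ 0 := fun e => hs (by linear_combination e - s * two_eq_zero hK)
  have hsnd : ∀ u, quad m 27 25 28 30 0 u ∈ H := by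
    intro u
    rcases eq_or_ne u 0 with rfl | hu
    · rw [quad_zero hK quadPos]; exact one_mem H
    let f : Kˣ →* Kˣ := powMonoidHom (2 ^ m + 1)
    have hinj : Function.Injective f := (injective_iff_map_eq_one f).mpr fun x hx => snd_mult_eq_one hK hx
    obtain ⟨x, hx⟩ := Finite.surjective_of_injective hinj
      (Units.mk0 ((s ^ 2 ^ m + s) / u) (div_ne_zero hne hu))
    have hx' : (x : K) ^ (2 ^ m + 1) = (s ^ 2 ^ m + s) / u := by
      have := congrArg (fun z : Kˣ => (z : K)) hx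
      simpa [f] using this
    have := mul_mem (mul_mem (hd x) hδ) (inv_mem (hd x))
    rwa [tor_apply, conj_quad hK, mul_zero, hx', inv_div, div_mul_cancel₀ u hne] at this
  obtain ⟨u', hu'⟩ := hfst t
  have h := mul_mem hu' (hsnd (u - u'))
  rwa [quad_mul hK quadPos, add_zero, mul_zero, add_zero, add_sub_cancel] at h

end

theorem two_generated (hm : 1 ≤ m) : ∃ a ∈ (S hK).fix, ∃ b ∈ (S hK).fix,
    Subgroup.closure ({a, b} : Set (GL (T4).I K)) = (S hK).fix := by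
  have hT : (T4).Valid := Data.F4.valid
  obtain ⟨hbe, hben, hg, hbeca, hneg0, hneg1⟩ := twGen_facts
  obtain ⟨w, hw, hwP⟩ : ∃ w ∈ (S hK).W1, ∀ x : Fin (T4).n, (w x).val = genW4 x.val :=
    ⟨_, mul_mem ((S hK).wJ_mem (O hK) (1 : Fin 2)) ((S hK).wJ_mem (O hK) (0 : Fin 2)), fun x => by
      rw [Equiv.Perm.mul_apply, (data hK).orbits_wJ chk_orbits (1 : Fin 2),
        (data hK).orbits_wJ chk_orbits (0 : Fin 2)]
      rfl⟩
  obtain ⟨n, hnG, hnN, hnm⟩ := ((gen hK).main w hw).1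
  have hnf : n ∈ (S hK).fix := le_fix hK hnG
  obtain ⟨γ, hγ⟩ := IsCyclic.exists_monoid_generator (α := Kˣ)
  have hQf : quad (K := K) m 27 25 28 30 1 0 ∈ (S hK).fix := quad_fix hK quadPos 1 0
  set P0 := pair (K := K) m 33 24 1 with hP0
  have hP0f : P0 ∈ (S hK).fix := pair_fix hK (by simp) 1
  set g := n * (n * P0 * n⁻¹) * n⁻¹ with hgdef
  have hgf : g ∈ (S hK).fix := mul_mem (mul_mem hnf (mul_mem (mul_mem hnf hP0f) (inv_mem hnf))) (inv_mem hnf)
  refine ⟨tor hK γ * g, mul_mem (tor_mem hK γ).2 hgf, quad m 27 25 28 30 1 0 * n, mul_mem hQf hnf, ?_⟩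
  set H := Subgroup.closure ({tor hK γ * g, quad m 27 25 28 30 1 0 * n} : Set (GL (T4).I K)) with hH
  have haH : tor hK γ * g ∈ H := Subgroup.subset_closure (Set.mem_insert _ _)
  have hbH : quad m 27 25 28 30 1 0 * n ∈ H := Subgroup.subset_closure (Set.mem_insert_of_mem _ rfl)
  refine le_antisymm ((Subgroup.closure_le _).mpr (Set.insert_subset (mul_mem (tor_mem hK γ).2 hgf)
    (Set.singleton_subset_iff.mpr (mul_mem hQf hnf)))) ?_
  have hcom : Commute (tor hK γ) g := by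
    have h0 : P0 ∈ (T4).rootGen K (fun r => r ∈ [24, 33]) := gprod_mem fun p hp => by
      simp only [List.mem_cons, List.not_mem_nil, or_false] at hp
      rcases hp with rfl | rfl <;> exact ⟨by dsimp only; decide +kernel, by simp⟩
    have h1 := conj_mem_rootGen hT hnm (Q := fun r => ∃ s ∈ [24, 33], r = genW4 s)
      (fun s hs => ⟨s.val, hs, hwP s⟩) h0
    have h2 := conj_mem_rootGen hT hnm (Q := fun r => ∃ s ∈ [24, 33], r = genW4 (genW4 s))
      (fun s ⟨s', hs', e⟩ => ⟨s', hs', by rw [hwP, e]⟩) h1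
    exact tor_commute hK γ (fun r _ ⟨s, hs, e⟩ => e ▸ (hg s hs).2) h2
  have hd : tor hK γ ∈ H := by
    have hP1 : P0 * P0 = 1 := by
      rw [hP0]
      nth_rewrite 2 [← pair_inv hK (a := 33) (b := 24) (by simp) 1]
      rw [mul_inv_cancel]
    have hg2 : g ^ 2 = 1 := by
      rw [hgdef, pow_two]
      calc n * (n * P0 * n⁻¹) * n⁻¹ * (n * (n * P0 * n⁻¹) * n⁻¹) = n * (n * (P0 * P0) * n⁻¹) * n⁻¹ := by group
        _ = 1 := by rw [hP1]; group
    have hγq : γ ^ 2 ^ (2 * m + 1) = γ := Units.ext (by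
      rw [Units.val_pow_eq_pow_val]; exact pow_card_eq hK _)
    have := pow_mem haH (2 ^ (2 * m + 1))
    rw [hcom.mul_pow, pow_succ' 2 (2 * m), pow_mul g, hg2, one_pow, mul_one, ← pow_succ', ← map_pow, hγq] at this
    exact this
  have hdall : ∀ c, tor hK c ∈ H := fun c => by
    obtain ⟨k, hk⟩ := hγ c
    rw [← show γ ^ k = c from hk, map_pow]; exact pow_mem hd k
  have hgH : g ∈ H := by
    have := mul_mem (inv_mem hd) haH
    rwa [inv_mul_cancel_left] at this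
  -- the quad class
  have hh' : n * tor hK γ * n⁻¹ ∈ (T4).datum.diagonalSubgroup K ⊓ (S hK).fix :=
    Subgroup.mem_inf.mpr
      ⟨conj_diag hT hnN (tor_mem hK γ).1, mul_mem (mul_mem hnf (tor_mem hK γ).2) (inv_mem hnf)⟩
  obtain ⟨ψ, hψ, eψ⟩ := diag_exists_char hT hh'.1
  have hwbe : w ⟨21, hben⟩ = ⟨25, quadPos.lt.2.1⟩ := Fin.ext ((hwP _).trans hbe)
  have hμ : ψ 25 = γ⁻¹ := by
    obtain ⟨c, hc⟩ := hnm.conj ⟨21, hben⟩
    have e2 : ∀ s, n * (T4).xU K 21 s * n⁻¹ = (T4).xU K 25 ((c : K) * s) := fun s => by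
      have := (hc s).1
      rw [hwbe] at this
      rw [this, mul_inv_cancel_right]
    have hχ : tor hK γ * (T4).xU K 21 1 = (T4).xU K 21 ((γ⁻¹ : Kˣ) : K) * tor hK γ := by
      show (T4).dU (fun s => ∏ i, supp m γ 1 i ^ (T4).ca i s) * _ = _
      rw [dU_conj_X hT (isChar_prod hT _) hben, tor_char hK γ 21, hbeca.1, hbeca.2, zpow_zero, mul_one,
        zpow_neg_one, mul_one]
      rfl
    have h1 : (T4).dU ψ * (T4).xU K 25 (c : K) =
        (T4).xU K 25 ((c : K) * ((γ⁻¹ : Kˣ) : K)) * (T4).dU ψ := by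
      rw [← eψ, ← e2, show (T4).xU K 25 (c : K) = n * (T4).xU K 21 1 * n⁻¹ by rw [e2, mul_one]]
      calc n * tor hK γ * n⁻¹ * (n * (T4).xU K 21 1 * n⁻¹) =
            n * (tor hK γ * (T4).xU K 21 1) * n⁻¹ := by group
        _ = n * ((T4).xU K 21 ((γ⁻¹ : Kˣ) : K) * tor hK γ) * n⁻¹ := by rw [hχ]
        _ = _ := by group
    rw [dU_conj_X hT hψ quadPos.lt.2.1, mul_comm (c : K)] at h1
    exact Units.ext (mul_right_cancel₀ c.ne_zero (xU_inj hT quadPos.lt.2.1 (mul_right_cancel h1)))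
  obtain ⟨tq, uq, hq⟩ : ∃ t u, (n * tor hK γ * n⁻¹) * (quad m 27 25 28 30 1 0)⁻¹ *
      (n * tor hK γ * n⁻¹)⁻¹ = quad m 27 25 28 30 t u := by
    refine exists_quad hK (Subgroup.mem_inf.mpr
      ⟨mul_mem (mul_mem hh'.2 (inv_mem hQf)) (inv_mem hh'.2), ?_⟩)
    exact conj_mem_rootGen hT (mono_diag hT hh'.1) (fun s hs => hs)
      (inv_mem (Subgroup.mem_inf.mp (quad_mem_Uw hK 1 0)).2)
  have htq : tq = ((γ⁻¹ : Kˣ) : K) := by
    rw [eψ, quad_inv hK quadPos, quad, dU_mul_gprod hK hψ _ (by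
      intro p hp
      obtain ⟨ha, hb, hc, hd⟩ := quadPos.lt
      simp only [List.mem_cons, List.not_mem_nil, or_false] at hp
      rcases hp with rfl | rfl | rfl | rfl <;> assumption)] at hq
    have := gprod_inj hT Data.F4.chkComm (L := [25, 27, 28, 30]) (by decide) (by decide +kernel)
      (fun r => (ψ r : K) * (if r = 25 then 1 else if r = 27 then 1 ^ 2 ^ m else if r = 28 then
        0 + 1 ^ (2 ^ m + 1) else 1 ^ (2 * 2 ^ m + 1) + (0 + 1 ^ (2 ^ m + 1)) ^ (2 * 2 ^ m)))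
      (fun r => if r = 25 then tq else if r = 27 then tq ^ 2 ^ m else if r = 28 then uq else
        tq ^ (2 * 2 ^ m + 1) + uq ^ (2 * 2 ^ m))
      (by simpa [quad, gprod] using hq) 25 (by simp)
    simpa [hμ] using this.symm
  have hγ1 : γ ≠ 1 := by
    rintro rfl
    obtain ⟨c, -, hc1, -⟩ := exists_gen_unit hK hm
    obtain ⟨k, hk⟩ := hγ c
    exact hc1 (by rw [← show (1 : Kˣ) ^ k = c from hk]; simp)
  obtain ⟨c1, -, hc1, -⟩ := exists_gen_unit hK hm
  set X := quad m 27 25 28 30 1 0 * quad m 27 25 28 30 tq uq with hX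
  have hb2 : X * (n * tor hK γ * n⁻¹) ∈ H := by
    have := mul_mem (mul_mem hbH hd) (inv_mem hbH)
    rwa [hX, ← hq, show quad m 27 25 28 30 1 0 * (n * tor hK γ * n⁻¹ * (quad m 27 25 28 30 1 0)⁻¹ *
      (n * tor hK γ * n⁻¹)⁻¹) * (n * tor hK γ * n⁻¹) =
      quad m 27 25 28 30 1 0 * n * tor hK γ * (quad m 27 25 28 30 1 0 * n)⁻¹ by group]
  have hkey : tor hK c1 * X * (tor hK c1)⁻¹ * X⁻¹ ∈ H := by
    have h2 := mul_mem (mul_mem (mul_mem (hdall c1) hb2) (inv_mem (hdall c1))) (inv_mem hb2)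
    have hcc : Commute (tor hK c1) (n * tor hK γ * n⁻¹) := diag_comm hT (tor_mem hK c1).1 hh'.1
    set h' := n * tor hK γ * n⁻¹
    rwa [show tor hK c1 * (X * h') * (tor hK c1)⁻¹ * (X * h')⁻¹ =
      tor hK c1 * X * (tor hK c1)⁻¹ * (tor hK c1 * h' * (tor hK c1)⁻¹ * h'⁻¹) * X⁻¹ by group,
      hcc.eq, mul_inv_cancel_right, mul_inv_cancel, mul_one] at h2
  rw [hX, quad_mul hK quadPos, tor_apply, conj_quad hK, quad_inv hK quadPos, quad_mul hK quadPos] at hkey
  have hne : ((c1 : K)⁻¹ * (1 + tq) + (1 + tq)) ≠ 0 := by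
    intro h
    have h' : (1 + tq) * ((c1 : K)⁻¹ + 1) = 0 := by linear_combination h
    rcases mul_eq_zero.mp h' with h | h
    · rw [htq] at h
      have : ((γ⁻¹ : Kˣ) : K) = 1 := by linear_combination h - two_eq_zero hK
      exact hγ1 (inv_eq_one.mp (Units.ext this))
    · have : (c1 : K)⁻¹ = 1 := by linear_combination h - two_eq_zero hK
      rw [inv_eq_one] at this
      exact hc1 this
  have hquad := all_quad hK hm hdall hne hkey
  have hnH : n ∈ H := by
    have := mul_mem (inv_mem (hquad 1 0)) hbH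
    rwa [inv_mul_cancel_left] at this
  have hP : P0 ∈ H := by
    have := mul_mem (mul_mem (inv_mem hnH) (mul_mem (mul_mem (inv_mem hnH) hgH) hnH)) hnH
    rwa [hgdef, show n⁻¹ * (n⁻¹ * (n * (n * P0 * n⁻¹) * n⁻¹) * n) * n = P0 by group] at this
  have hpair : ∀ t, pair m 33 24 t ∈ H := by
    intro t
    rcases eq_or_ne t 0 with rfl | ht
    · obtain ⟨ha, hb, -, -, -⟩ := pairFacts (33, 24) (by simp)
      rw [show pair m 33 24 (0 : K) = 1 by simp [pair, gprod, xU_zero Data.F4.valid, ha, hb]]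
      exact one_mem H
    have h2 := sqrt_units hK (Units.mk0 t ht)
    set c := Units.mk0 t ht ^ 2 ^ (2 * m)
    have := mul_mem (mul_mem (hdall c) hP) (inv_mem (hdall c))
    rwa [tor_apply, hP0, conj_pair hK, mul_one, pow_two, ← Units.val_mul, h2, Units.val_mk0] at this
  rw [← grp_eq_fix hK, grp_eq hK, Subgroup.closure_le]
  have hconj : ∀ (j : Fin 2) (L Lp : List ℕ),
      (T4).negList (Data.F4.orbWords.getD j.val []) = Lp →
      (∀ r ∈ L, genW4 (genW4 (genW4 (genW4 r))) ∈ Lp) →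
      ∀ x, x ∈ (S hK).fix → x ∈ (T4).rootGen K (fun r => r ∈ L) →
      n * (n * (n * (n * x * n⁻¹) * n⁻¹) * n⁻¹) * n⁻¹ ∈ (S hK).Uw ((S hK).wJ (O hK) j) := by
    intro j L Lp hLp hL x hxf hx
    have c1 := conj_mem_rootGen hT hnm (Q := fun r => ∃ s ∈ L, r = genW4 s) (fun s hs => ⟨s.val, hs, hwP s⟩) hx
    have c2 := conj_mem_rootGen hT hnm (Q := fun r => ∃ s ∈ L, r = genW4 (genW4 s))
      (fun s ⟨s', hs', e⟩ => ⟨s', hs', by rw [hwP, e]⟩) c1
    have c3 := conj_mem_rootGen hT hnm (Q := fun r => ∃ s ∈ L, r = genW4 (genW4 (genW4 s)))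
      (fun s ⟨s', hs', e⟩ => ⟨s', hs', by rw [hwP, e]⟩) c2
    have c4 := conj_mem_rootGen hT hnm (Q := (T4).negSet ((S hK).wJ (O hK) j))
      (fun s ⟨s', hs', e⟩ => ((data hK).negSet_iff chk_orbits j hLp _).mpr (by
        rw [hwP, e]; exact hL s' hs')) c3
    have hc : ∀ {y : GL (T4).I K}, y ∈ (S hK).fix → n * y * n⁻¹ ∈ (S hK).fix := fun hy =>
      mul_mem (mul_mem hnf hy) (inv_mem hnf)
    exact Subgroup.mem_inf.mpr ⟨hc (hc (hc (hc hxf))), c4⟩
  have hback : ∀ x, n * (n * (n * (n * x * n⁻¹) * n⁻¹) * n⁻¹) * n⁻¹ ∈ H → x ∈ H := by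
    intro x h
    have hc : ∀ {y : GL (T4).I K}, n * y * n⁻¹ ∈ H → y ∈ H := fun {y} hy => by
      have := mul_mem (mul_mem (inv_mem hnH) hy) hnH
      rwa [show n⁻¹ * (n * y * n⁻¹) * n = y by group] at this
    exact hc (hc (hc (hc h)))
  rintro x (⟨t, rfl⟩ | ⟨t, rfl⟩ | ⟨t, u, rfl⟩ | ⟨t, u, rfl⟩)
  · exact hpair t
  · refine hback _ ?_
    have hmem : pair m 14 23 t ∈ (T4).rootGen K (fun r => r ∈ [14, 23]) := gprod_mem fun p hp => by
      simp only [List.mem_cons, List.not_mem_nil, or_false] at hp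
      rcases hp with rfl | rfl <;> exact ⟨by dsimp only; decide +kernel, by simp⟩
    obtain ⟨t', e⟩ := exists_pair hK (hconj 0 [14, 23] _ negList0 hneg0 _ (pair_fix hK (by simp) t) hmem)
    rw [e]; exact hpair t'
  · exact hquad t u
  · refine hback _ ?_
    have hmem : quad m 20 22 19 17 t u ∈ (T4).rootGen K (fun r => r ∈ [20, 22, 19, 17]) :=
      gprod_mem fun p hp => by
        simp only [List.mem_cons, List.not_mem_nil, or_false] at hp
        rcases hp with rfl | rfl | rfl | rfl <;> exact ⟨by dsimp only; decide +kernel, by simp⟩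
    obtain ⟨t', u', e⟩ := exists_quad hK (hconj 1 [20, 22, 19, 17] _ negList1 hneg1 _
      (quad_fix hK quadNeg t u) hmem)
    rw [e]; exact hquad t' u'

end CfsgLib.Chevalley.Twist.F4
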