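import Cfsg.Agent.Lib.KnownB.TwGen.Main
import Cfsg.Agent.Lib.Chevalley.Twist.InstD4
import Cfsg.Agent.Lib.Chevalley.Twist.InstE6

/-!
Two generators of ³D₄ and ²E₆.
-/

set_option autoImplicit false
set_option maxRecDepth 20000
set_option Elab.async false

namespace CfsgLib.Chevalley.Twist

open Tbl

theorem twGen_norm_surj {K : Type*} [Field K] [Finite K] {q N : ℕ} (hq : 1 ≤ q)
    (hN : N * (q - 1) = Nat.card K - 1) {t : K} (ht : t ≠ 0) (hfix : t ^ q = t) :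
    ∃ c : Kˣ, ((c ^ N : Kˣ) : K) = t := by
  rcases Nat.eq_zero_or_pos (q - 1) with h | h
  · exact absurd hN (by rw [h, mul_zero]; have := Finite.one_lt_card (α := K); omega)
  obtain ⟨γ, hγ⟩ := IsCyclic.exists_monoid_generator (α := Kˣ)
  have hord : orderOf γ = Nat.card K - 1 := by
    rw [← Nat.card_units]
    exact orderOf_eq_card_of_forall_mem_zpowers fun x => by
      obtain ⟨l, hl⟩ := hγ x; exact ⟨(l : ℤ), by simpa using hl⟩
  obtain ⟨l, hl⟩ := hγ (Units.mk0 t ht)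
  have hl' : (γ ^ l : Kˣ) = Units.mk0 t ht := hl
  have hu : (Units.mk0 t ht) ^ (q - 1) = 1 := Units.ext (by
    rw [Units.val_pow_eq_pow_val, Units.val_mk0, Units.val_one]
    refine mul_left_cancel₀ ht ?_
    rw [mul_one, ← pow_succ', Nat.sub_add_cancel hq, hfix])
  rw [← hl', ← pow_mul, ← orderOf_dvd_iff_pow_eq_one, hord, ← hN] at hu
  obtain ⟨e, rfl⟩ := Nat.dvd_of_mul_dvd_mul_right h hu
  exact ⟨γ ^ e, by rw [← pow_mul, mul_comm e, hl', Units.val_mk0]⟩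

theorem twGen_pow_ne {K : Type*} [Field K] [Finite K] {γ : Kˣ} (hγ : ∀ x : Kˣ, ∃ l : ℕ, γ ^ l = x)
    {e : ℕ} (h0 : 0 < e) (he : e < Nat.card K - 1) : γ ^ e ≠ 1 := fun h => by
  have hord : orderOf γ = Nat.card K - 1 := by
    rw [← Nat.card_units]
    exact orderOf_eq_card_of_forall_mem_zpowers fun x => by
      obtain ⟨l, hl⟩ := hγ x; exact ⟨(l : ℤ), by simpa using hl⟩
  have := Nat.le_of_dvd h0 (hord ▸ orderOf_dvd_of_pow_eq_one h)
  omega

namespace D4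

theorem genCert : Data.D4.tbl.chkTwGen Data.D4.graph 2 Data.D4.orbWords [[1], [0, 2, 3]] 1 [0, 1] 23 22 1 17
    [((true, 2), (true, 5)), ((false, 0), (false, 3))] = true := by decide +kernel

theorem genVals : ∀ p ∈ ([(23, 0, 0, 0), (22, 1, 1, 1), (18, 2, 0, 0), (17, -1, 1, 1)] : List (ℕ × ℤ × ℤ × ℤ)),
    Data.D4.tbl.ca 0 p.1 = p.2.1 ∧ Data.D4.tbl.ca 2 p.1 = p.2.2.1 ∧ Data.D4.tbl.ca 3 p.1 = p.2.2.2 := by
  decide +kernel

variable {K : Type*} [Field K] [Finite K] {q : ℕ} (hq : IsPrimePow q) (hK : Nat.card K = q ^ 3)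

/-- The torus of the short orbit. -/
noncomputable def genPar (q : ℕ) : Kˣ →* (Fin Data.D4.tbl.rank → Kˣ) where
  toFun c := (![c, 1, c ^ q, (c ^ q) ^ q] : Fin 4 → Kˣ)
  map_one' := by
    have : ∀ i : Fin 4, (![(1 : Kˣ), 1, (1 : Kˣ) ^ q, ((1 : Kˣ) ^ q) ^ q] : Fin 4 → Kˣ) i = 1 := by
      intro i; fin_cases i <;> simp
    exact funext this
  map_mul' a b := by
    have : ∀ i : Fin 4, (![(a * b), 1, (a * b) ^ q, ((a * b) ^ q) ^ q] : Fin 4 → Kˣ) i = (![a, 1, a ^ q, (a ^ q) ^ q] * ![b, 1, b ^ q, (b ^ q) ^ q] : Fin 4 → Kˣ) i := by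
      intro i; fin_cases i <;> simp [mul_pow]
    exact funext this

include hq hK

theorem two_generated : ∃ a ∈ (setup hq hK).S.fix, ∃ b ∈ (setup hq hK).S.fix,
    Subgroup.closure ({a, b} : Set (GL Data.D4.tbl.I K)) = (setup hq hK).S.fix := by
  have h2 := two_le_of_isPrimePow hq
  have hq8 : 8 ≤ Nat.card K := by
    rw [hK]; exact le_trans (by norm_num) (Nat.pow_le_pow_left h2 3)
  have hval : ∀ (c : Kˣ) (r : ℕ) (x y z : ℤ), (r, x, y, z) ∈
      ([(23, 0, 0, 0), (22, 1, 1, 1), (18, 2, 0, 0), (17, -1, 1, 1)] : List (ℕ × ℤ × ℤ × ℤ)) →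
      ∏ i, genPar q c i ^ Data.D4.tbl.ca i r = c ^ x * (c ^ q) ^ y * ((c ^ q) ^ q) ^ z := by
    intro c r x y z hm
    obtain ⟨hx, hy, hz⟩ := genVals _ hm
    show ∏ i : Fin 4, genPar q c i ^ Data.D4.tbl.ca i.val r = _
    rw [Fin.prod_univ_four]
    show c ^ Data.D4.tbl.ca 0 r * (1 : Kˣ) ^ Data.D4.tbl.ca 1 r * (c ^ q) ^ Data.D4.tbl.ca 2 r *
      ((c ^ q) ^ q) ^ Data.D4.tbl.ca 3 r = _
    rw [one_zpow, mul_one, hx, hy, hz]
  have hL : ((setup hq hK).L 1).getD 0 0 = 18 := by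
    show (Data.D4.tbl.simples ([[1], [0, 2, 3]].getD 1 [])).getD 0 0 = 18
    rw [simples1]; rfl
  refine (setup hq hK).exists_pair (G_eq hq hK) genCert (genPar q) (fun c => ?_) (fit1 hq hK) (fun c => ?_)
    (fun t ht hf => ?_) (fun L hLc t => ?_) ?_ (fun γ hγ => ?_)
  · exact (mem_tauFix hq hK).mpr ⟨one_pow q, rfl, rfl⟩
  · rw [hval c 23 0 0 0 (by simp)]; simp
  · obtain ⟨c, hc⟩ := twGen_norm_surj (q := q) (N := 1 + q + q * q) (by omega) (by
      rw [hK]; zify [Nat.one_le_pow 3 q (by omega), show 1 ≤ q by omega]; ring) ht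
      ((fq_apply hq hK t).symm.trans hf)
    refine ⟨c, ?_⟩
    rw [hval c 22 1 1 1 (by simp), ← hc]
    simp only [zpow_one, ← pow_mul, ← pow_succ', ← pow_add]
    ring_nf
  · refine CfsgLib.ChevGen.addSubgroup_of_squares L (fun s => ?_) t
    rcases eq_or_ne s 0 with rfl | hs
    · rw [zero_pow two_ne_zero]; exact L.zero_mem
    have := hLc (Units.mk0 s hs)
    rwa [hL, hval _ 18 2 0 0 (by simp), zpow_zero, zpow_zero, mul_one, mul_one, zpow_ofNat,
      Units.val_pow_eq_pow_val, Units.val_mk0] at this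
  · obtain ⟨c, h1, h2⟩ := exists_sq_ne_one (K := K) (by omega)
    refine ⟨Units.mk0 c h1, fun e => h2 ?_⟩
    rw [hL, hval _ 18 2 0 0 (by simp), zpow_zero, zpow_zero, mul_one, mul_one, zpow_ofNat] at e
    simpa using congrArg Units.val e
  · rw [hval γ 17 (-1) 1 1 (by simp)]
    intro e
    refine twGen_pow_ne hγ (e := q * q + q - 1) (by
      have : 4 ≤ q * q := by nlinarith
      omega) ?_ ?_
    · have h8 : q * q + q ≤ q ^ 3 - 1 := by
        have : q * q + q + 1 ≤ q ^ 3 := by nlinarith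
        omega
      rw [hK]; omega
    · rw [zpow_neg_one, zpow_one, zpow_one, ← pow_mul, mul_assoc, ← pow_add, inv_mul_eq_one] at e
      refine mul_left_cancel (a := γ) ?_
      rw [mul_one, ← pow_succ', show q * q + q - 1 + 1 = q + q * q by
        have : 1 ≤ q * q + q := by nlinarith
        omega]
      exact e.symm

end D4

namespace E6

theorem genCert : Data.E6.tbl.chkTwGen Data.E6.graph 4 Data.E6.orbWords orbs 2 [0, 1, 3, 2] 39 51 1 42
    [((true, 2), (true, 8)), ((true, 1), (true, 7)), ((false, 0), (false, 6)), ((false, 1), (false, 7))]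
    = true := by decide +kernel

theorem genVals : ∀ p ∈ ([(39, 0, 0), (51, -1, -1), (56, 2, 0), (42, -1, 0)] : List (ℕ × ℤ × ℤ)),
    Data.E6.tbl.ca 0 p.1 = p.2.1 ∧ Data.E6.tbl.ca 5 p.1 = p.2.2 := by
  decide +kernel

variable {K : Type*} [Field K] [Finite K] {q : ℕ} (hq : IsPrimePow q) (hK : Nat.card K = q ^ 2)

/-- The torus of a short orbit. -/
noncomputable def genPar (q : ℕ) : Kˣ →* (Fin Data.E6.tbl.rank → Kˣ) where
  toFun c := (![c, 1, 1, 1, 1, c ^ q] : Fin 6 → Kˣ)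
  map_one' := by
    have : ∀ i : Fin 6, (![(1 : Kˣ), 1, 1, 1, 1, (1 : Kˣ) ^ q] : Fin 6 → Kˣ) i = 1 := by
      intro i; fin_cases i <;> simp
    exact funext this
  map_mul' a b := by
    have : ∀ i : Fin 6, (![(a * b), 1, 1, 1, 1, (a * b) ^ q] : Fin 6 → Kˣ) i = (![a, 1, 1, 1, 1, a ^ q] * ![b, 1, 1, 1, 1, b ^ q] : Fin 6 → Kˣ) i := by
      intro i; fin_cases i <;> simp [mul_pow]
    exact funext this

include hq hK

theorem two_generated : ∃ a ∈ (setup hq hK).S.fix, ∃ b ∈ (setup hq hK).S.fix,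
    Subgroup.closure ({a, b} : Set (GL Data.E6.tbl.I K)) = (setup hq hK).S.fix := by
  have h2 := two_le_of_isPrimePow hq
  have hq4 : 4 ≤ Nat.card K := by
    rw [hK]; exact le_trans (by norm_num) (Nat.pow_le_pow_left h2 2)
  have hval : ∀ (c : Kˣ) (r : ℕ) (x y : ℤ), (r, x, y) ∈
      ([(39, 0, 0), (51, -1, -1), (56, 2, 0), (42, -1, 0)] : List (ℕ × ℤ × ℤ)) →
      ∏ i, genPar q c i ^ Data.E6.tbl.ca i r = c ^ x * (c ^ q) ^ y := by
    intro c r x y hm
    obtain ⟨hx, hy⟩ := genVals _ hm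
    show ∏ i : Fin 6, genPar q c i ^ Data.E6.tbl.ca i.val r = _
    rw [Fin.prod_univ_six]
    show c ^ Data.E6.tbl.ca 0 r * (1 : Kˣ) ^ Data.E6.tbl.ca 1 r * (1 : Kˣ) ^ Data.E6.tbl.ca 2 r *
      (1 : Kˣ) ^ Data.E6.tbl.ca 3 r * (1 : Kˣ) ^ Data.E6.tbl.ca 4 r * (c ^ q) ^ Data.E6.tbl.ca 5 r = _
    rw [one_zpow, one_zpow, one_zpow, one_zpow, mul_one, mul_one, mul_one, mul_one, hx, hy]
  have hL : ((setup hq hK).L 2).getD 0 0 = 56 := by
    show (Data.E6.tbl.simples (orbs.getD 2 [])).getD 0 0 = 56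
    rw [simples2]; rfl
  refine (setup hq hK).exists_pair (G_eq hq hK) genCert (genPar q) (fun c => ?_)
    (fit_pair hq hK rfl) (fun c => ?_) (fun t ht hf => ?_) (fun L hLc t => ?_) ?_ (fun γ hγ => ?_)
  · exact (mem_tauFix hq hK).mpr ⟨one_pow q, one_pow q, rfl, (one_pow q).symm⟩
  · rw [hval c 39 0 0 (by simp)]; simp
  · obtain ⟨c, hc⟩ := twGen_norm_surj (q := q) (N := 1 + q) (by omega) (by
      rw [hK]; zify [Nat.one_le_pow 2 q (by omega), show 1 ≤ q by omega]; ring) ht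
      ((fq_apply hq hK t).symm.trans hf)
    refine ⟨c⁻¹, ?_⟩
    rw [hval c⁻¹ 51 (-1) (-1) (by simp), ← hc]
    simp only [inv_pow, zpow_neg, zpow_one, inv_inv, ← pow_succ']
    ring_nf
  · refine CfsgLib.ChevGen.addSubgroup_of_squares L (fun s => ?_) t
    rcases eq_or_ne s 0 with rfl | hs
    · rw [zero_pow two_ne_zero]; exact L.zero_mem
    have := hLc (Units.mk0 s hs)
    rwa [hL, hval _ 56 2 0 (by simp), zpow_zero, mul_one, zpow_ofNat,
      Units.val_pow_eq_pow_val, Units.val_mk0] at this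
  · obtain ⟨c, h1, h2⟩ := exists_sq_ne_one (K := K) hq4
    refine ⟨Units.mk0 c h1, fun e => h2 ?_⟩
    rw [hL, hval _ 56 2 0 (by simp), zpow_zero, mul_one, zpow_ofNat] at e
    simpa using congrArg Units.val e
  · rw [hval γ 42 (-1) 0 (by simp), zpow_zero, mul_one, zpow_neg_one, inv_ne_one]
    have := twGen_pow_ne hγ (e := 1) one_pos (by omega)
    rwa [pow_one] at this

end E6

end CfsgLib.Chevalley.Twist
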