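import Cfsg.Agent.Lib.KnownB.TwGen.Check
import Cfsg.Agent.Lib.KnownB.ChevGen.Main
import Cfsg.Agent.Lib.Chevalley.Twist.AbPerfect

/-!
Two generators of twisted groups with commuting orbits: a torus element times a commuting root
element, and an orbit element times a monomial element.
-/

set_option autoImplicit false

namespace CfsgLib.Chevalley.Tbl

variable {T : Tbl} {F : Type*} [Field F]

theorem rootGen_single (hT : T.Valid) {r : ℕ} (hr : r < T.n) {x : GL T.I F}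
    (hx : x ∈ T.rootGen F (fun s => s = r)) : ∃ t, x = T.xU F r t := by
  induction hx using Subgroup.closure_induction with
  | mem y hy =>
    obtain ⟨s, hs, e, t, rfl⟩ := hy
    exact ⟨t, by rw [show s = r from e]⟩
  | one => exact ⟨0, (xU_zero hT hr).symm⟩
  | mul a b _ _ iha ihb =>
    obtain ⟨s, rfl⟩ := iha
    obtain ⟨t, rfl⟩ := ihb
    exact ⟨s + t, xU_add hT hr s t⟩
  | inv a _ iha =>
    obtain ⟨s, rfl⟩ := iha
    exact ⟨-s, xU_inv hT hr s⟩

namespace TwistData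

variable (D : TwistData T F)

theorem xU_fix_iff {r : ℕ} (h : T.twFixed D.M r = true) (t : F) :
    T.xU F r t ∈ D.twist.fix ↔ D.f t = t := by
  simp only [twFixed, Bool.and_eq_true, decide_eq_true_eq] at h
  obtain ⟨⟨⟨h1, h2⟩, h3⟩, h4⟩ := h
  have hr : r < T.n := Nat.le_of_ble_eq_true h1
  have e : D.twist.sg (T.xU F r t) = T.xU F r (D.f t) := by
    rw [D.sg_x hr, Nat.eq_of_beq_eq_true h2, RootMap.par, h3, Nat.eq_of_beq_eq_true h4, Int.cast_one,
      one_mul, pow_one]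
  refine ⟨fun hx => xU_inj D.ok.valid hr (e.symm.trans hx.2), fun ht => ⟨xU_mem_group D.ok.valid hr t, ?_⟩⟩
  rw [e, ht]

theorem char_step {χ : ℕ → Fˣ} (hχ : T.IsChar χ) (hd : (T.dU χ : GL T.I F) ∈ D.twist.fix) {r : ℕ}
    (hr : r < T.n) (hρ : D.M.ρ r < T.n) (hpar : ∀ t : F, D.M.par r t = t) :
    (χ (D.M.ρ r) : F) = D.f (χ r : F) := by
  have hT := D.ok.valid
  have h := congrArg D.twist.sg (dU_conj_X (F := F) hT hχ hr 1)
  rw [D.twist.sg_mul hd.1 (xU_mem_group hT hr _), D.twist.sg_mul (xU_mem_group hT hr _) hd.1, hd.2,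
    D.sg_x hr, D.sg_x hr, hpar, hpar, dU_conj_X hT hχ hρ] at h
  simpa using xU_inj hT hρ (mul_right_cancel h)

end TwistData

namespace AbSetup

variable (A : AbSetup T F)

/-- A fixed diagonal element scales the words of an orbit. -/
theorem conj_cycWord {χ : ℕ → Fˣ} (hχ : T.IsChar χ) (hd : (T.dU χ : GL T.I F) ∈ A.S.fix) {j : ℕ}
    (hj : j < A.o) (t : F) :
    T.dU χ * T.gprod (cycWord A.D.f (A.L j) t) * (T.dU χ)⁻¹ =
      T.gprod (cycWord A.D.f (A.L j) ((χ ((A.L j).getD 0 0) : F) * t)) := by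
  obtain ⟨hab, -, -, -⟩ := A.facts hj
  obtain ⟨-, hfa⟩ := A.D.chkAb_facts hab
  have key : ∀ e < (A.L j).length,
      (χ ((A.L j).getD e 0) : F) = (⇑A.D.f)^[e] (χ ((A.L j).getD 0 0) : F) := by
    intro e
    induction e with
    | zero => intro _; rfl
    | succ e ih =>
      intro he
      obtain ⟨h1, h2, h3, -⟩ := hfa e (by omega)
      rw [Nat.mod_eq_of_lt he] at h2
      rw [Function.iterate_succ_apply', ← ih (by omega), ← h2]
      exact A.D.char_step hχ hd h1 (h2 ▸ (hfa (e + 1) he).1) h3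
  rw [A.dU_cycWord hχ hj, mul_inv_cancel_right, cycWord]
  refine congrArg _ (List.map_congr_left fun e he => ?_)
  rw [A.iterate_mul, key e (List.mem_range.mp he)]

theorem word_zero {j : ℕ} (hj : j < A.o) : T.gprod (cycWord A.D.f (A.L j) (0 : F)) = 1 := by
  have h := A.word_add hj 0 0
  rw [add_zero] at h
  exact mul_eq_left.mp h

theorem word_inv {j : ℕ} (hj : j < A.o) (t : F) :
    (T.gprod (cycWord A.D.f (A.L j) t))⁻¹ = T.gprod (cycWord A.D.f (A.L j) (-t)) :=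
  inv_eq_of_mul_eq_one_right (by rw [A.word_add hj, add_neg_cancel, A.word_zero hj])

variable [Finite F]

/-- Two generators, from a one-parameter torus and a certificate. -/
theorem exists_pair (hGF : A.G = A.S.fix) {j0 g r k be : ℕ} {js : List ℕ}
    {data : List ((Bool × ℕ) × (Bool × ℕ))}
    (h : T.chkTwGen A.D.M A.o A.words A.Ss j0 js g r k be data = true)
    (φ : Fˣ →* (Fin T.rank → Fˣ)) (hφ : ∀ c, φ c ∈ A.D.tauFix) (hfit : ∀ t, A.Fit j0 t)
    (hg : ∀ c, ∏ i, φ c i ^ T.ca i g = 1)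
    (hr : ∀ t : F, t ≠ 0 → A.D.f t = t → ∃ c, ((∏ i, φ c i ^ T.ca i r : Fˣ) : F) = t)
    (hal : ∀ K : AddSubgroup F,
      (∀ c, ((∏ i, φ c i ^ T.ca i ((A.L j0).getD 0 0) : Fˣ) : F) ∈ K) → ∀ t, t ∈ K)
    (hal1 : ∃ c, ∏ i, φ c i ^ T.ca i ((A.L j0).getD 0 0) ≠ 1)
    (hbe : ∀ γ : Fˣ, (∀ x : Fˣ, ∃ l : ℕ, γ ^ l = x) → ∏ i, φ γ i ^ T.ca i be ≠ 1) :
    ∃ a ∈ A.S.fix, ∃ b ∈ A.S.fix, Subgroup.closure ({a, b} : Set (GL T.I F)) = A.S.fix := by
  classical
  haveI := Fintype.ofFinite F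
  have hT := A.D.ok.valid
  simp only [chkTwGen, Bool.and_eq_true, allLt_iff] at h
  obtain ⟨⟨⟨⟨⟨⟨⟨hj0, hjs⟩, hgf⟩, hrf⟩, hk⟩, hben⟩, hbeal⟩, hdata⟩ := h
  have hj0 : j0 < A.o := Nat.le_of_ble_eq_true hj0
  have hben : be < T.n := Nat.le_of_ble_eq_true hben
  have hbeal : T.twP A.words js be = (A.L j0).getD 0 0 := Nat.eq_of_beq_eq_true hbeal
  have hgn : g < T.n := by
    simp only [twFixed, Bool.and_eq_true] at hgf; exact Nat.le_of_ble_eq_true hgf.1.1.1
  have hrn : r < T.n := by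
    simp only [twFixed, Bool.and_eq_true] at hrf; exact Nat.le_of_ble_eq_true hrf.1.1.1
  obtain ⟨hab, -, -, -⟩ := A.facts hj0
  obtain ⟨h00, hfa⟩ := A.D.chkAb_facts hab
  set al := (A.L j0).getD 0 0 with hal_def
  have haln : al < T.n := (hfa 0 h00).1
  let χ : Fˣ → ℕ → Fˣ := fun c s => ∏ i, φ c i ^ T.ca i s
  have hχ : ∀ c, T.IsChar (χ c) := fun c => isChar_prod hT _
  let d : Fˣ →* GL T.I F := (torusHom T F).comp φ
  have hd : ∀ c, d c = T.dU (χ c) := fun c => rfl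
  have hdfix : ∀ c, d c ∈ T.datum.diagonalSubgroup F ⊓ A.S.fix := fun c =>
    A.D.map_tauFix_le (Subgroup.mem_map_of_mem _ (hφ c))
  obtain ⟨w, hw, hwP⟩ : ∃ w ∈ A.S.W1, ∀ x : Fin T.n, (w x).val = T.twP A.words js x.val := by
    suffices ∀ js : List ℕ, (∀ j ∈ js, j < A.o) → ∃ w ∈ A.S.W1,
        ∀ x : Fin T.n, (w x).val = T.twP A.words js x.val from
      this js fun j hj => Nat.le_of_ble_eq_true (List.all_eq_true.mp hjs j hj)
    intro js
    induction js with
    | nil => intro _; exact ⟨1, one_mem _, fun x => rfl⟩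
    | cons j js ih =>
      intro hj
      obtain ⟨w, hw, e⟩ := ih fun l hl => hj l (List.mem_cons_of_mem _ hl)
      refine ⟨_, mul_mem (A.S.wJ_mem A.O ⟨j, hj j List.mem_cons_self⟩) hw, fun x => ?_⟩
      rw [Equiv.Perm.mul_apply, twP, List.foldr_cons, ← twP, ← e]
      exact A.D.orbits_wJ A.hO ⟨j, hj j List.mem_cons_self⟩ _
  obtain ⟨n, hnG, hnN, hm⟩ := (A.gen.main w hw).1
  have hnf : n ∈ A.S.fix := A.le_fix hnG
  let X : F → GL T.I F := fun t => T.gprod (cycWord A.D.f (A.L j0) t)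
  have hXf : ∀ t, X t ∈ A.S.fix := fun t => A.pos_fix hj0 (hfit t)
  obtain ⟨γ, hγ⟩ := IsCyclic.exists_monoid_generator (α := Fˣ)
  have hγpow : ∀ c : Fˣ, ∃ l : ℕ, γ ^ l = c := fun c => hγ c
  have hgfix : T.xU F g 1 ∈ A.S.fix := (A.D.xU_fix_iff hgf 1).mpr (map_one _)
  refine ⟨d γ * T.xU F g 1, mul_mem (hdfix γ).2 hgfix, X 1 * n, mul_mem (hXf 1) hnf, ?_⟩
  set H := Subgroup.closure ({d γ * T.xU F g 1, X 1 * n} : Set (GL T.I F)) with hH
  have haH : d γ * T.xU F g 1 ∈ H := Subgroup.subset_closure (Set.mem_insert _ _)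
  have hbH : X 1 * n ∈ H := Subgroup.subset_closure (Set.mem_insert_of_mem _ rfl)
  refine le_antisymm ((Subgroup.closure_le _).mpr (Set.insert_subset (mul_mem (hdfix γ).2 hgfix)
    (Set.singleton_subset_iff.mpr (mul_mem (hXf 1) hnf)))) ?_
  have hcom : Commute (d γ) (T.xU F g 1) := by
    show _ * _ = _ * _
    rw [hd, dU_conj_X hT (hχ γ) hgn, show χ γ g = 1 from hg γ, Units.val_one, one_mul]
  have hdγ : d γ ∈ H := by
    have hx1 : T.xU F g 1 ^ Fintype.card F = 1 := by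
      rw [CfsgLib.ChevGen.xU_nsmul hT hgn, mul_one, FiniteField.cast_card_eq_zero, xU_zero hT hgn]
    have hd1 : d γ ^ Fintype.card F = d γ := by
      rw [← map_pow, ← Nat.sub_add_cancel (Fintype.one_lt_card (α := F)).le, pow_succ,
        show γ ^ (Fintype.card F - 1) = 1 by rw [← Fintype.card_units]; exact pow_card_eq_one, one_mul]
    have := pow_mem haH (Fintype.card F)
    rwa [hcom.mul_pow, hx1, hd1, mul_one] at this
  have hdall : ∀ c, d c ∈ H := fun c => by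
    obtain ⟨l, rfl⟩ := hγpow c
    rw [map_pow]; exact pow_mem hdγ l
  have hgH : T.xU F g 1 ∈ H := by
    have := mul_mem (inv_mem hdγ) haH
    rwa [inv_mul_cancel_left] at this
  -- the orbit `j0`
  have hconjX : ∀ c t, d c * X t * (d c)⁻¹ = X ((χ c al : F) * t) := fun c t =>
    A.conj_cycWord (hχ c) (hdfix c).2 hj0 t
  have hh' : n * d γ * n⁻¹ ∈ T.datum.diagonalSubgroup F := conj_diag hT hnN (hdfix γ).1
  obtain ⟨ψ, hψ, eψ⟩ := diag_exists_char hT hh'
  have hψfix : (T.dU ψ : GL T.I F) ∈ A.S.fix :=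
    eψ ▸ mul_mem (mul_mem hnf (hdfix γ).2) (inv_mem hnf)
  have hwbe : w ⟨be, hben⟩ = ⟨al, haln⟩ := Fin.ext ((hwP _).trans hbeal)
  have hμ : ψ al = χ γ be := by
    obtain ⟨c, hc⟩ := hm.conj ⟨be, hben⟩
    have e2 : ∀ s, n * T.xU F be s * n⁻¹ = T.xU F al ((c : F) * s) := fun s => by
      have := (hc s).1
      rw [hwbe] at this
      rw [this, mul_inv_cancel_right]
    have h1 : T.dU ψ * T.xU F al (c : F) = T.xU F al ((c : F) * (χ γ be : F)) * T.dU ψ := by
      rw [← eψ, ← e2, show T.xU F al (c : F) = n * T.xU F be 1 * n⁻¹ by rw [e2, mul_one]]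
      calc n * d γ * n⁻¹ * (n * T.xU F be 1 * n⁻¹) = n * (d γ * T.xU F be 1) * n⁻¹ := by group
        _ = n * (T.xU F be (χ γ be : F) * d γ) * n⁻¹ := by rw [hd, dU_conj_X hT (hχ γ) hben, mul_one]
        _ = _ := by group
    rw [dU_conj_X hT hψ haln, mul_comm (c : F)] at h1
    exact Units.ext (mul_right_cancel₀ c.ne_zero (xU_inj hT haln (mul_right_cancel h1)))
  set μ : F := (χ γ be : F) with hμdef
  have he : X 1 * n * d γ * (X 1 * n)⁻¹ = X (1 - μ) * T.dU ψ := by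
    rw [show X 1 * n * d γ * (X 1 * n)⁻¹ = X 1 * (n * d γ * n⁻¹) * (X 1)⁻¹ by group, eψ,
      A.word_inv hj0, show X 1 * T.dU ψ * X (-1) =
        X 1 * (T.dU ψ * X (-1) * (T.dU ψ)⁻¹) * T.dU ψ by group, A.conj_cycWord hψ hψfix hj0, ← hal_def,
      hμ, A.word_add hj0]
    congr 3
    ring
  have hu : 1 - μ ≠ 0 := sub_ne_zero.mpr fun e => hbe γ hγpow (Units.ext e.symm)
  have hkey : ∀ c, X (((χ c al : F) - 1) * (1 - μ)) ∈ H := by
    intro c
    have hb2 := mul_mem (mul_mem hbH hdγ) (inv_mem hbH)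
    have h2 := mul_mem (mul_mem (mul_mem (hdall c) hb2) (inv_mem (hdall c))) (inv_mem hb2)
    have hc2 : Commute (d c) (T.dU ψ) := diag_comm hT (hdfix c).1 (eψ ▸ hh')
    rw [he, show d c * (X (1 - μ) * T.dU ψ) * (d c)⁻¹ * (X (1 - μ) * T.dU ψ)⁻¹ =
      d c * X (1 - μ) * (d c)⁻¹ * (d c * T.dU ψ * (d c)⁻¹ * (T.dU ψ)⁻¹) * (X (1 - μ))⁻¹ by group,
      hc2.eq, mul_inv_cancel_right, mul_inv_cancel, mul_one, hconjX, A.word_inv hj0, A.word_add hj0] at h2
    convert h2 using 3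
    ring
  obtain ⟨c1, hc1⟩ := hal1
  set δ : F := ((χ c1 al : F) - 1) * (1 - μ) with hδ
  have hδ0 : δ ≠ 0 := mul_ne_zero (sub_ne_zero.mpr fun e => hc1 (Units.ext e)) hu
  have hXH : ∀ t, X t ∈ H := by
    let K : AddSubgroup F :=
      { carrier := {y | X (δ * y) ∈ H}
        add_mem' := fun {a b} ha hb => by
          show X (δ * (a + b)) ∈ H
          rw [mul_add]
          show T.gprod _ ∈ H
          rw [← A.word_add hj0]
          exact mul_mem ha hb
        zero_mem' := by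
          show X (δ * 0) ∈ H
          rw [mul_zero]
          show T.gprod _ ∈ H
          rw [A.word_zero hj0]
          exact one_mem H
        neg_mem' := fun {a} ha => by
          show X (δ * -a) ∈ H
          rw [mul_neg]
          show T.gprod _ ∈ H
          rw [← A.word_inv hj0]
          exact inv_mem ha }
    intro t
    have := hal K (fun c => by
      show X (δ * _) ∈ H
      have h1 := mul_mem (mul_mem (hdall c) (hkey c1)) (inv_mem (hdall c))
      rwa [hconjX, ← hδ, mul_comm] at h1) (δ⁻¹ * t)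
    change X (δ * (δ⁻¹ * t)) ∈ H at this
    rwa [mul_inv_cancel_left₀ hδ0] at this
  have hnH : n ∈ H := by
    have := mul_mem (inv_mem (hXH 1)) hbH
    rwa [inv_mul_cancel_left] at this
  -- the root `r`
  have hmove : ∀ l x (c : F), x < T.n → c ≠ 0 → T.xU F x c ∈ H →
      ∃ u : F, u ≠ 0 ∧ T.xU F (T.twIt A.words js l x) u ∈ H := by
    intro l
    induction l with
    | zero => exact fun x c _ hc hx => ⟨c, hc, hx⟩
    | succ l ih =>
      intro x c hx hc hmem
      obtain ⟨e, he⟩ := hm.conj ⟨x, hx⟩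
      have h1 := mul_mem (mul_mem hnH hmem) (inv_mem hnH)
      rw [show n * T.xU F x c = _ from (he c).1, mul_inv_cancel_right] at h1
      rw [twIt, ← hwP ⟨x, hx⟩]
      exact ih _ _ (w ⟨x, hx⟩).2 (mul_ne_zero e.ne_zero hc) h1
  obtain ⟨u0, hu0, hu0H⟩ := hmove k g 1 hgn one_ne_zero hgH
  rw [show T.twIt A.words js k g = r from Nat.eq_of_beq_eq_true hk] at hu0H
  have hHfix : H ≤ A.S.fix := (Subgroup.closure_le _).mpr (Set.insert_subset (mul_mem (hdfix γ).2 hgfix)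
    (Set.singleton_subset_iff.mpr (mul_mem (hXf 1) hnf)))
  have hu0f := (A.D.xU_fix_iff hrf u0).mp (hHfix hu0H)
  have hfull0 : ∀ (b : Bool) (x : GL T.I F), x ∈ A.S.fix →
      x ∈ T.rootGen F (fun s => s ∈ (bif b then [r] else A.L j0)) → x ∈ H := by
    intro b x hxf hx
    cases b with
    | false =>
      obtain ⟨-, -, -, hperm⟩ := A.facts hj0
      obtain ⟨t, -, rfl⟩ := A.exists_word ⟨j0, hj0⟩ (Subgroup.mem_inf.mpr ⟨hxf,
        rootGen_mono (fun s _ hs => (A.D.negSet_iff A.hO ⟨j0, hj0⟩ rfl s).mpr (hperm.mem_iff.mpr hs)) hx⟩)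
      exact hXH t
    | true =>
      obtain ⟨t, rfl⟩ := rootGen_single hT hrn (rootGen_mono (fun s _ hs => by simpa using hs) hx)
      rcases eq_or_ne t 0 with rfl | ht
      · rw [xU_zero hT hrn]; exact one_mem H
      obtain ⟨c, hc⟩ := hr (t / u0) (div_ne_zero ht hu0)
        (by rw [map_div₀, (A.D.xU_fix_iff hrf t).mp hxf, hu0f])
      have h1 := mul_mem (mul_mem (hdall c) hu0H) (inv_mem (hdall c))
      rwa [hd, dU_conj_X hT (hχ c) hrn, mul_inv_cancel_right, hc, div_mul_cancel₀ t hu0] at h1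
  have hfull : ∀ (b : Bool) (l : ℕ) (x : GL T.I F), x ∈ A.S.fix → x ∈ T.rootGen F (fun s =>
      T.twIt A.words js l s ∈ (bif b then [r] else A.L j0)) → x ∈ H := by
    intro b l
    induction l with
    | zero => exact hfull0 b
    | succ l ih =>
      intro x hxf hx
      have h1 := ih (n * x * n⁻¹) (mul_mem (mul_mem hnf hxf) (inv_mem hnf))
        (conj_mem_rootGen hT hm (fun s hs => by rw [hwP]; exact hs) hx)
      have h2 := mul_mem (mul_mem (inv_mem hnH) h1) hnH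
      rwa [show n⁻¹ * (n * x * n⁻¹) * n = x by group] at h2
  have hit : ∀ (e : Bool × ℕ) (tg : List ℕ),
      T.twHit A.words js (A.L j0) r e tg = true → ∀ p ∈ tg,
        T.twIt A.words js e.2 p ∈ (bif e.1 then [r] else A.L j0) := by
    intro e tg h p hp
    obtain ⟨q, hq, heq⟩ := List.any_eq_true.mp (List.all_eq_true.mp h p hp)
    exact Nat.eq_of_beq_eq_true heq ▸ hq
  rw [← hGF]
  refine (Subgroup.closure_le _).mpr ?_
  rintro x ⟨v, hv, hx⟩
  obtain ⟨j, hj, t, ht, rfl | rfl⟩ := A.hW v hv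
  · rw [show x = _ from Units.ext (hx.trans (gprod_wordMat hT (A.D.cycWord_lt (A.facts hj).1 t)))]
    refine hfull _ _ _ (A.pos_fix hj ht) (gprod_mem fun p hp =>
      ⟨A.D.cycWord_lt (A.facts hj).1 t p hp, hit _ _ (hdata j hj).1 p.1 ?_⟩)
    obtain ⟨e, he, rfl⟩ := List.mem_map.mp hp
    show ((A.L j).getD e 0) ∈ A.L j
    have he' : e < (A.L j).length := List.mem_range.mp he
    rw [List.getD_eq_getElem _ _ he']
    exact List.getElem_mem _
  · rw [show x = _ from Units.ext (hx.trans (gprod_wordMat hT (A.D.cycWord_lt (A.facts hj).2.1 t)))]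
    refine hfull _ _ _ (A.neg_fix hj ht) (gprod_mem fun p hp =>
      ⟨A.D.cycWord_lt (A.facts hj).2.1 t p hp, hit _ _ (hdata j hj).2 p.1 ?_⟩)
    obtain ⟨e, he, rfl⟩ := List.mem_map.mp hp
    show ((A.L j).map T.neg).getD e 0 ∈ (A.L j).map T.neg
    have he' : e < ((A.L j).map T.neg).length := List.mem_range.mp he
    rw [List.getD_eq_getElem _ _ he']
    exact List.getElem_mem _

end AbSetup

end CfsgLib.Chevalley.Tbl
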